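import Cfsg.Agent.Lib.SteinbergSL.Basic
import Cfsg.Agent.Lib.SylowAbel.GLBase
import Cfsg.Agent.Lib.Linear.Card
import Mathlib.GroupTheory.NoncommPiCoprod
import Mathlib.Algebra.Group.Pointwise.Set.Card

/-!
A group generated by root elements of type A over a finite field is no larger than `SL_n`: two cells for
the parabolic fixing a line, by induction on the dimension.
-/

set_option autoImplicit false

namespace CfsgLib.SteinbergSL

open Pointwise

variable {K G : Type*} [Field K] [Group G] {n : ℕ}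

/-- All root elements. -/
def gensAll (x : Fin n → Fin n → K → G) : Set G := {g | ∃ i j t, i ≠ j ∧ g = x i j t}

/-- The generated group. -/
def grp (x : Fin n → Fin n → K → G) : Subgroup G := Subgroup.closure (gensAll x)

/-- Generators of the parabolic fixing the first line. -/
def gensP (x : Fin n → Fin n → K → G) : Set G :=
  {g | ∃ i j t, i ≠ j ∧ j.val ≠ 0 ∧ g = x i j t} ∪
    {g | ∃ (i j : Fin n) (t : K), i.val = 0 ∧ j.val = 1 ∧ t ≠ 0 ∧ g = hE x i j t}

/-- The parabolic. -/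
def par (x : Fin n → Fin n → K → G) : Subgroup G := Subgroup.closure (gensP x)

/-- The first row. -/
def row (x : Fin n → Fin n → K → G) : Subgroup G :=
  Subgroup.closure {g | ∃ i j t, i.val = 0 ∧ i ≠ j ∧ g = x i j t}

/-- The Levi part. -/
def levi (x : Fin n → Fin n → K → G) : Subgroup G :=
  Subgroup.closure {g | ∃ i j t, i ≠ j ∧ i.val ≠ 0 ∧ j.val ≠ 0 ∧ g = x i j t}

/-- The second cell. -/
def Cell (x : Fin n → Fin n → K → G) (g : G) : Prop :=
  ∃ i j : Fin n, i.val = 0 ∧ j.val = 1 ∧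
    ∃ ℓ ∈ levi x, ∃ u ∈ row x, ∃ p ∈ par x, g = ℓ * u * wE x i j 1 * p

/-- What is proved by induction. -/
def Good [Fintype K] (x : Fin n → Fin n → K → G) : Prop :=
  (∀ g ∈ grp x, g ∈ par x ∨ Cell x g) ∧
  (∃ R : Set G, R.Finite ∧ R.ncard ≤ ∑ i ∈ Finset.range n, Fintype.card K ^ i ∧
    ∀ g ∈ grp x, ∃ r ∈ R, ∃ p ∈ par x, g = r * p) ∧
  (Finite (grp x) ∧ Nat.card (grp x) ≤ Nat.card (Matrix.SpecialLinearGroup (Fin n) K))

theorem conj_closure_mem {s : Set G} {H : Subgroup G} {g : G} (h : ∀ y ∈ s, g * y * g⁻¹ ∈ H) {a : G}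
    (ha : a ∈ Subgroup.closure s) : g * a * g⁻¹ ∈ H := by
  induction ha using Subgroup.closure_induction with
  | mem y hy => exact h y hy
  | one => simpa using H.one_mem
  | mul a b _ _ iha ihb => rw [← conj_mul]; exact mul_mem iha ihb
  | inv a _ iha => rw [← conj_inv]; exact inv_mem iha

section Step

variable [Fintype K] {m : ℕ} {x : Fin (m + 2) → Fin (m + 2) → K → G}

local notation "o" => (0 : Fin (m + 2))
local notation "a" => (1 : Fin (m + 2))
local notation "W" => wE x (0 : Fin (m + 2)) (1 : Fin (m + 2)) 1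

theorem oa : o ≠ a := by simp

theorem val_ne {i : Fin (m + 2)} (h : i ≠ o) : i.val ≠ 0 := fun h' => h (Fin.ext h')

omit [Fintype K] in
theorem x_mem_row {j : Fin (m + 2)} (hj : o ≠ j) (t : K) : x o j t ∈ row x :=
  Subgroup.subset_closure ⟨o, j, t, rfl, hj, rfl⟩

omit [Fintype K] in
theorem x_mem_levi {i j : Fin (m + 2)} (hij : i ≠ j) (hi : i ≠ o) (hj : j ≠ o) (t : K) :
    x i j t ∈ levi x :=
  Subgroup.subset_closure ⟨i, j, t, hij, val_ne hi, val_ne hj, rfl⟩

omit [Fintype K] in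
theorem x_mem_par {i j : Fin (m + 2)} (hij : i ≠ j) (hj : j ≠ o) (t : K) : x i j t ∈ par x :=
  Subgroup.subset_closure (Or.inl ⟨i, j, t, hij, val_ne hj, rfl⟩)

omit [Fintype K] in
theorem h_mem_par {t : K} (ht : t ≠ 0) : hE x o a t ∈ par x :=
  Subgroup.subset_closure (Or.inr ⟨o, a, t, rfl, rfl, ht, rfl⟩)

omit [Fintype K] in
theorem row_le_par : row x ≤ par x := by
  rw [row, Subgroup.closure_le]
  rintro _ ⟨i, j, t, hi, hij, rfl⟩
  obtain rfl : i = o := Fin.ext hi
  exact x_mem_par hij hij.symm t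

omit [Fintype K] in
theorem levi_le_par : levi x ≤ par x := by
  rw [levi, Subgroup.closure_le]
  rintro _ ⟨i, j, t, hij, -, hj, rfl⟩
  exact x_mem_par hij (fun h => hj (by rw [h]; rfl)) t

omit [Fintype K] in
theorem shift_grp : grp (fun i j => x (Fin.succ i) (Fin.succ j)) = levi x := by
  apply le_antisymm
  · rw [grp, Subgroup.closure_le]
    rintro _ ⟨i, j, t, hij, rfl⟩
    exact x_mem_levi ((Fin.succ_injective _).ne hij) (Fin.succ_ne_zero i) (Fin.succ_ne_zero j) t
  · rw [levi, Subgroup.closure_le]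
    rintro _ ⟨i, j, t, hij, hi, hj, rfl⟩
    obtain ⟨i', rfl⟩ := Fin.exists_succ_eq.2 (fun h => hi (by rw [h]; rfl) : i ≠ o)
    obtain ⟨j', rfl⟩ := Fin.exists_succ_eq.2 (fun h => hj (by rw [h]; rfl) : j ≠ o)
    exact Subgroup.subset_closure ⟨i', j', t, fun h => hij (by rw [h]), rfl⟩

variable (S : Sys x)
include S

omit [Fintype K] in
theorem levi_le_normalizer : levi x ≤ Subgroup.normalizer (row x : Set G) := by
  have key : ∀ (i j : Fin (m + 2)) (t : K), i ≠ j → i ≠ o → j ≠ o →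
      ∀ u ∈ row x, x i j t * u * (x i j t)⁻¹ ∈ row x := by
    intro i j t hij hio hjo u hu
    refine conj_closure_mem ?_ hu
    rintro _ ⟨k, l, s, hk, hkl, rfl⟩
    obtain rfl : k = o := Fin.ext hk
    by_cases hli : l = i
    · subst hli
      rw [conj_two S.add S.comm1 hij hio.symm hjo.symm]
      exact mul_mem (x_mem_row hjo.symm _) (x_mem_row hio.symm _)
    · rw [conj_fix S.comm0 hij hkl (Ne.symm hli) hjo]
      exact x_mem_row hkl _
  rw [levi, Subgroup.closure_le]
  rintro _ ⟨i, j, t, hij, hi, hj, rfl⟩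
  have hio : i ≠ o := fun h => hi (by rw [h]; rfl)
  have hjo : j ≠ o := fun h => hj (by rw [h]; rfl)
  refine Subgroup.mem_normalizer_iff.2 fun u => ⟨key i j t hij hio hjo u, fun hu => ?_⟩
  have := key i j (-t) hij hio hjo _ hu
  rw [← S.inv_eq hij] at this
  simpa [mul_assoc] using this

omit [Fintype K] in
theorem levi_row {ℓ u : G} (hℓ : ℓ ∈ levi x) (hu : u ∈ row x) : ℓ * u * ℓ⁻¹ ∈ row x :=
  (Subgroup.mem_normalizer_iff.1 (levi_le_normalizer S hℓ) u).1 hu

omit [Fintype K] in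
theorem w_row' {i : Fin (m + 2)} (hio : i ≠ o) (hia : i ≠ a) (t : K) :
    W * x o i t * W⁻¹ ∈ levi x := by
  rw [S.row oa hio.symm hia.symm one_ne_zero]
  exact x_mem_levi hia.symm oa.symm hio _

variable [Finite K]

omit [Fintype K] in
theorem hmul' {t u : K} (ht : t ≠ 0) (hu : u ≠ 0) : hE x o a t * hE x o a u = hE x o a (t * u) :=
  S.h_mul oa ht hu

omit [Fintype K] in
theorem hinv {t : K} (ht : t ≠ 0) : (hE x o a t)⁻¹ = hE x o a t⁻¹ := by
  rw [inv_eq_iff_mul_eq_one, hmul' S ht (inv_ne_zero ht), mul_inv_cancel₀ ht, hE_eq,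
    (S.two o a oa).h_one]

omit [Fintype K] in
theorem h_levi {t : K} (ht : t ≠ 0) {ℓ : G} (hℓ : ℓ ∈ levi x) :
    hE x o a t * ℓ * (hE x o a t)⁻¹ ∈ levi x := by
  refine conj_closure_mem ?_ hℓ
  rintro _ ⟨i, j, s, hij, hi, hj, rfl⟩
  obtain ⟨c, hc⟩ := S.h_conj (oa (m := m)) ht hij s
  rw [hc]
  exact Subgroup.subset_closure ⟨i, j, c, hij, hi, hj, rfl⟩

omit [Fintype K] in
theorem h_row {t : K} (ht : t ≠ 0) {u : G} (hu : u ∈ row x) :
    hE x o a t * u * (hE x o a t)⁻¹ ∈ row x := by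
  refine conj_closure_mem ?_ hu
  rintro _ ⟨i, j, s, hi, hij, rfl⟩
  obtain ⟨c, hc⟩ := S.h_conj (oa (m := m)) ht hij s
  rw [hc]
  exact Subgroup.subset_closure ⟨i, j, c, hi, hij, rfl⟩

omit [Fintype K] in
theorem h_swap {t : K} (ht : t ≠ 0) : hE x o a t * W = W * hE x o a t⁻¹ := by
  have h := (S.two o a oa).w_conj_w one_ne_zero ht
  rw [← wE_eq, ← wE_eq, ← wE_eq, one_pow, one_mul] at h
  have e : W * wE x o a t = wE x o a t⁻¹ * W := by rw [← h, inv_mul_cancel_right]
  have e2 : W * hE x o a t = hE x o a t⁻¹ * W := by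
    rw [hE, hE, ← mul_assoc, e, mul_assoc, mul_assoc]
    congr 1
    rw [← S.w_inv oa, mul_inv_cancel, inv_mul_cancel]
  have := congrArg (fun z => hE x o a t * z * hE x o a t⁻¹) e2
  have h1 : hE x o a t * hE x o a t⁻¹ = 1 := by rw [← hinv S ht, mul_inv_cancel]
  calc hE x o a t * W = hE x o a t * W * (hE x o a t * hE x o a t⁻¹) := by rw [h1, mul_one]
    _ = hE x o a t * (W * hE x o a t) * hE x o a t⁻¹ := by group
    _ = (hE x o a t * hE x o a t⁻¹) * W * hE x o a t⁻¹ := by rw [e2]; group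
    _ = W * hE x o a t⁻¹ := by rw [h1, one_mul]

omit [Fintype K] in
theorem ww_mem : W * W ∈ par x := by
  rw [S.ww oa]
  exact inv_mem (h_mem_par (neg_ne_zero.2 one_ne_zero))

omit [Fintype K] in
theorem cell_intro {ℓ u p : G} (hℓ : ℓ ∈ levi x) (hu : u ∈ row x) (hp : p ∈ par x) :
    Cell x (ℓ * u * W * p) :=
  ⟨o, a, rfl, rfl, ℓ, hℓ, u, hu, p, hp, rfl⟩

omit [Fintype K] in
theorem cell_elim {g : G} (hg : Cell x g) :
    ∃ ℓ ∈ levi x, ∃ u ∈ row x, ∃ p ∈ par x, g = ℓ * u * W * p := by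
  obtain ⟨i, j, hi, hj, h⟩ := hg
  obtain rfl : i = o := Fin.ext hi
  obtain rfl : j = a := Fin.ext hj
  exact h

/-- The union of the two cells. -/
def Two (x : Fin (m + 2) → Fin (m + 2) → K → G) (g : G) : Prop := g ∈ par x ∨ Cell x g

omit [Fintype K] in
theorem two_right {g p : G} (hg : Two x g) (hp : p ∈ par x) : Two x (g * p) := by
  rcases hg with hg | hg
  · exact Or.inl (mul_mem hg hp)
  · obtain ⟨ℓ, hℓ, u, hu, p', hp', rfl⟩ := cell_elim S hg
    exact Or.inr (by rw [mul_assoc _ p']; exact cell_intro S hℓ hu (mul_mem hp' hp))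

omit [Fintype K] in
theorem two_left {q : G} (hq : q ∈ par x) {g : G} (hg : Two x g) : Two x (q * g) := by
  rcases hg with hg | hg
  · exact Or.inl (mul_mem hq hg)
  obtain ⟨ℓ, hℓ, u, hu, p, hp, rfl⟩ := cell_elim S hg
  have hgen : ∀ y, (y ∈ levi x ∨ y ∈ row x ∨ ∃ t : K, t ≠ 0 ∧ y = hE x o a t) →
      ∀ z, Cell x z → Cell x (y * z) := by
    intro y hy z hz
    obtain ⟨ℓ', hℓ', u', hu', p', hp', rfl⟩ := cell_elim S hz
    rcases hy with hy | hy | ⟨t, ht, rfl⟩
    · rw [show y * (ℓ' * u' * W * p') = (y * ℓ') * u' * W * p' by group]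
      exact cell_intro S (mul_mem hy hℓ') hu' hp'
    · rw [show y * (ℓ' * u' * W * p') = ℓ' * ((ℓ'⁻¹ * y * ℓ') * u') * W * p' by group]
      refine cell_intro S hℓ' (mul_mem ?_ hu') hp'
      have := levi_row S (inv_mem hℓ') hy
      rwa [inv_inv] at this
    · rw [show hE x o a t * (ℓ' * u' * W * p') = (hE x o a t * ℓ' * (hE x o a t)⁻¹) *
          (hE x o a t * u' * (hE x o a t)⁻¹) * (hE x o a t * W) * p' by group, h_swap S ht,
        show ∀ p₁ p₂ p₃ p₄ : G, p₁ * p₂ * (W * p₃) * p₄ = p₁ * p₂ * W * (p₃ * p₄) from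
          fun _ _ _ _ => by group]
      exact cell_intro S (h_levi S ht hℓ') (h_row S ht hu') (mul_mem (h_mem_par (inv_ne_zero ht)) hp')
  refine Or.inr ?_
  induction hq using Subgroup.closure_induction_left with
  | one => rw [one_mul]; exact cell_intro S hℓ hu hp
  | mul_left y hy z _ ih =>
    rw [mul_assoc]
    refine hgen y ?_ _ ih
    rcases hy with ⟨i, j, t, hij, hj, rfl⟩ | ⟨i, j, t, hi, hj, ht, rfl⟩
    · by_cases hi : i = o
      · subst hi; exact Or.inr (Or.inl (x_mem_row hij t))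
      · exact Or.inl (x_mem_levi hij hi (fun h => hj (by rw [h]; rfl)) t)
    · obtain rfl : i = o := Fin.ext hi
      obtain rfl : j = a := Fin.ext hj
      exact Or.inr (Or.inr ⟨t, ht, rfl⟩)
  | inv_mul_cancel y hy z _ ih =>
    rw [mul_assoc]
    refine hgen y⁻¹ ?_ _ ih
    rcases hy with ⟨i, j, t, hij, hj, rfl⟩ | ⟨i, j, t, hi, hj, ht, rfl⟩
    · rw [S.inv_eq hij]
      by_cases hi : i = o
      · subst hi; exact Or.inr (Or.inl (x_mem_row hij _))
      · exact Or.inl (x_mem_levi hij hi (fun h => hj (by rw [h]; rfl)) _)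
    · obtain rfl : i = o := Fin.ext hi
      obtain rfl : j = a := Fin.ext hj
      exact Or.inr (Or.inr ⟨t⁻¹, inv_ne_zero ht, hinv S ht⟩)

omit [Fintype K] in
theorem two_W {p : G} (hp : p ∈ par x) : Two x (W * p) :=
  Or.inr (by simpa using cell_intro S (one_mem (levi x)) (one_mem (row x)) hp)

omit [Fintype K] in
/-- A first-row element is an `x₀₁` times an element moved by `W` into the Levi part. -/
theorem row_split {u : G} (hu : u ∈ row x) :
    ∃ (r : K) (v : G), v ∈ row x ∧ W⁻¹ * v * W ∈ levi x ∧ u = x o a r * v := by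
  let A : Subgroup G :=
    { carrier := {v | v ∈ row x ∧ W⁻¹ * v * W ∈ levi x}
      one_mem' := ⟨one_mem _, by simpa using one_mem (levi x)⟩
      mul_mem' := by
        rintro p q ⟨hp1, hp2⟩ ⟨hq1, hq2⟩
        refine ⟨mul_mem hp1 hq1, ?_⟩
        rw [show W⁻¹ * (p * q) * W = (W⁻¹ * p * W) * (W⁻¹ * q * W) by group]
        exact mul_mem hp2 hq2
      inv_mem' := by
        rintro p ⟨hp1, hp2⟩
        refine ⟨inv_mem hp1, ?_⟩
        rw [show W⁻¹ * p⁻¹ * W = (W⁻¹ * p * W)⁻¹ by group]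
        exact inv_mem hp2 }
  have hA : ∀ v ∈ row x, ∀ r : K, Commute (x o a r) v := by
    intro v hv r
    induction hv using Subgroup.closure_induction with
    | mem y hy =>
      obtain ⟨i, j, s, hi, hij, rfl⟩ := hy
      obtain rfl : i = o := Fin.ext hi
      exact S.comm0 o a o j oa hij hij oa.symm r s
    | one => exact Commute.one_right _
    | mul p q _ _ ihp ihq => exact ihp.mul_right ihq
    | inv p _ ihp => exact ihp.inv_right
  induction hu using Subgroup.closure_induction with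
  | mem y hy =>
    obtain ⟨i, j, s, hi, hij, rfl⟩ := hy
    obtain rfl : i = o := Fin.ext hi
    by_cases hja : j = a
    · subst hja
      exact ⟨s, 1, one_mem _, by simpa using one_mem (levi x), by rw [mul_one]⟩
    · refine ⟨0, x o j s, x_mem_row hij s, ?_, by rw [S.zero oa, one_mul]⟩
      have := S.row (oa (m := m)) hij (Ne.symm hja) (neg_ne_zero.2 one_ne_zero) s
      rw [← S.w_inv oa, inv_inv] at this
      rw [this]
      exact x_mem_levi (Ne.symm hja) oa.symm hij.symm _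
  | one => exact ⟨0, 1, one_mem _, by simpa using one_mem (levi x), by rw [S.zero oa, one_mul]⟩
  | mul p q _ _ ihp ihq =>
    obtain ⟨r₁, v₁, h1, h1', rfl⟩ := ihp
    obtain ⟨r₂, v₂, h2, h2', rfl⟩ := ihq
    have hv : v₁ * v₂ ∈ A := A.mul_mem ⟨h1, h1'⟩ ⟨h2, h2'⟩
    refine ⟨r₁ + r₂, v₁ * v₂, hv.1, hv.2, ?_⟩
    rw [← S.add o a oa, mul_assoc, ← mul_assoc v₁, ← (hA v₁ h1 r₂).eq]
    simp only [mul_assoc]
  | inv p _ ihp =>
    obtain ⟨r, v, h1, h1', rfl⟩ := ihp
    have hv : v⁻¹ ∈ A := A.inv_mem ⟨h1, h1'⟩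
    refine ⟨-r, v⁻¹, hv.1, hv.2, ?_⟩
    rw [mul_inv_rev, S.inv_eq oa, (hA v⁻¹ hv.1 (-r)).eq]

omit [Fintype K] in
theorem two_WxW (r : K) : Two x (W * x o a r * W) := by
  rw [show W * x o a r * W = (W * x o a r * W⁻¹) * (W * W) by group, S.self oa one_ne_zero]
  refine two_right S ?_ (ww_mem S)
  generalize -((1 : K)⁻¹ ^ 2 * r) = c
  rcases eq_or_ne c 0 with rfl | hc
  · rw [S.zero oa.symm]; exact Or.inl (one_mem _)
  have hs : -c⁻¹ ≠ 0 := neg_ne_zero.2 (inv_ne_zero hc)
  have e : x a o c = x o a c⁻¹ * (hE x o a (-c⁻¹) * (W * x o a c⁻¹)) := by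
    rw [← mul_assoc (hE x o a (-c⁻¹)), S.h_w oa, wE]
    have hcc : -(-c⁻¹)⁻¹ = c := by field_simp
    rw [hcc, ← S.inv_eq oa]
    group
  rw [e]
  exact two_left S (x_mem_par oa oa.symm _)
    (two_left S (h_mem_par hs) (two_W S (x_mem_par oa oa.symm _)))

omit [Fintype K] in
theorem two_WuW {u : G} (hu : u ∈ row x) : Two x (W * u * W) := by
  obtain ⟨r, v, -, hv, rfl⟩ := row_split S hu
  rw [show W * (x o a r * v) * W = (W * x o a r * W) * (W⁻¹ * v * W) by group]
  exact two_right S (two_WxW S r) (levi_le_par hv)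

variable (H : Good fun i j => x (Fin.succ i) (Fin.succ j))
include H

omit [Finite K] in
theorem W_par' {p : G} (hp : p ∈ par (fun i j => x (Fin.succ i) (Fin.succ j))) :
    p ∈ levi x ∧ W * p * W⁻¹ ∈ par x := by
  constructor
  · rw [← shift_grp]
    induction hp using Subgroup.closure_induction with
    | mem y hy =>
      rcases hy with ⟨i, j, t, hij, -, rfl⟩ | ⟨i, j, t, hi, hj, -, rfl⟩
      · exact Subgroup.subset_closure ⟨i, j, t, hij, rfl⟩
      · have hij : i ≠ j := fun h => by rw [h, hj] at hi; omega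
        have hw : ∀ s : K, wE (fun i j => x (Fin.succ i) (Fin.succ j)) i j s ∈
            grp (fun i j => x (Fin.succ i) (Fin.succ j)) := fun s =>
          mul_mem (mul_mem (Subgroup.subset_closure ⟨i, j, s, hij, rfl⟩)
            (Subgroup.subset_closure ⟨j, i, -s⁻¹, hij.symm, rfl⟩))
            (Subgroup.subset_closure ⟨i, j, s, hij, rfl⟩)
        exact mul_mem (hw t) (hw (-1))
    | one => exact one_mem _
    | mul _ _ _ _ ih₁ ih₂ => exact mul_mem ih₁ ih₂
    | inv _ _ ih => exact inv_mem ih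
  · refine conj_closure_mem ?_ hp
    rintro y (⟨i, j, t, hij, hj, rfl⟩ | ⟨i, j, t, hi, hj, ht, rfl⟩)
    · have hja : Fin.succ j ≠ a := fun h => hj (by
        have := congrArg Fin.val h; simpa using this)
      have hjo : Fin.succ j ≠ o := Fin.succ_ne_zero j
      have hij' : Fin.succ i ≠ Fin.succ j := (Fin.succ_injective _).ne hij
      by_cases hia : Fin.succ i = a
      · show W * x (Fin.succ i) (Fin.succ j) t * W⁻¹ ∈ par x
        rw [hia, S.row' oa hjo.symm (Ne.symm hja) one_ne_zero]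
        exact x_mem_par hjo.symm hjo _
      · show W * x (Fin.succ i) (Fin.succ j) t * W⁻¹ ∈ par x
        rw [S.wfix oa hij' (Fin.succ_ne_zero i) hia hjo hja]
        exact x_mem_par hij' hjo t
    · have hsi : Fin.succ i = a := Fin.ext (by simp [hi])
      show W * hE x (Fin.succ i) (Fin.succ j) t * W⁻¹ ∈ par x
      rw [hsi]
      set c := Fin.succ j
      have hco : c ≠ o := Fin.succ_ne_zero j
      have hca : c ≠ a := fun h => by
        have := congrArg Fin.val h; simp [c, hj] at this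
      have h1 : (-1 : K) ≠ 0 := neg_ne_zero.2 one_ne_zero
      -- conjugating `W` by the torus element
      have hscale : ∀ s : K, hE x a c t * x o a s * (hE x a c t)⁻¹ = x o a (t⁻¹ * s) := by
        intro s
        rw [hE, show ∀ p q : G, p * q * x o a s * (p * q)⁻¹ = p * (q * x o a s * q⁻¹) * p⁻¹ from
          fun _ _ => by group, S.col hca.symm oa hco.symm h1, S.col' hca.symm oa hco.symm ht]
        congr 1; ring
      have hscale' : ∀ s : K, hE x a c t * x a o s * (hE x a c t)⁻¹ = x a o (t * s) := by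
        intro s
        rw [hE, show ∀ p q : G, p * q * x a o s * (p * q)⁻¹ = p * (q * x a o s * q⁻¹) * p⁻¹ from
          fun _ _ => by group, S.row hca.symm oa.symm hco h1, S.row' hca.symm oa.symm hco ht]
        congr 1; ring
      have hW : hE x a c t * W * (hE x a c t)⁻¹ = wE x o a t⁻¹ := by
        rw [conjw, hscale, hscale', wE, mul_one]
        simp
      have e : W * hE x a c t * W⁻¹ = (hE x o a t⁻¹)⁻¹ * hE x a c t := by
        rw [← S.h_w oa t⁻¹] at hW
        calc W * hE x a c t * W⁻¹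
            = (hE x o a t⁻¹)⁻¹ * (hE x o a t⁻¹ * W) * hE x a c t * W⁻¹ := by group
          _ = (hE x o a t⁻¹)⁻¹ * hE x a c t := by rw [← hW]; group
      rw [e]
      refine mul_mem (inv_mem (h_mem_par (inv_ne_zero ht))) ?_
      have hw : ∀ s : K, wE x a c s ∈ par x := fun s =>
        mul_mem (mul_mem (x_mem_par hca.symm hco s) (x_mem_par hca oa.symm _)) (x_mem_par hca.symm hco s)
      exact mul_mem (hw _) (hw _)

theorem two_W_left {g : G} (hg : Two x g) : Two x (W * g) := by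
  rcases hg with hg | hg
  · exact two_W S hg
  obtain ⟨ℓ, hℓ, u, hu, p, hp, rfl⟩ := cell_elim S hg
  rw [← mul_assoc]
  refine two_right S ?_ hp
  rcases H.1 ℓ (by rw [shift_grp]; exact hℓ) with hP | ⟨i, j, hi, hj, ℓ₂, hℓ₂, u', hu', p', hp', hdec⟩
  · rw [show W * (ℓ * u * W) = (W * ℓ * W⁻¹) * (W * u * W) by group]
    exact two_left S (W_par' S H hP).2 (two_WuW S hu)
  have hsi : Fin.succ i = a := Fin.ext (by simp [hi])
  set c := Fin.succ j with hcdef
  have hco : c ≠ o := Fin.succ_ne_zero j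
  have hca : c ≠ a := fun h => by
    have := congrArg Fin.val h; simp [c, hj] at this
  have hdec' : ℓ = ℓ₂ * u' * wE x a c 1 * p' := by rw [hdec, ← hsi]; rfl
  -- `ℓ₂` commutes with `W`
  have hℓ2 : W * ℓ₂ * W⁻¹ = ℓ₂ ∧ ℓ₂ ∈ levi x := by
    clear hdec hdec'
    induction hℓ₂ using Subgroup.closure_induction with
    | mem y hy =>
      obtain ⟨k, l, s, hkl, hk, hl, rfl⟩ := hy
      have hkl' : Fin.succ k ≠ Fin.succ l := (Fin.succ_injective _).ne hkl
      refine ⟨S.wfix oa hkl' (Fin.succ_ne_zero k) ?_ (Fin.succ_ne_zero l) ?_ 1 s,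
        x_mem_levi hkl' (Fin.succ_ne_zero k) (Fin.succ_ne_zero l) s⟩
      · exact fun h => hk (by have := congrArg Fin.val h; simpa using this)
      · exact fun h => hl (by have := congrArg Fin.val h; simpa using this)
    | one => exact ⟨by group, one_mem _⟩
    | mul p q _ _ ihp ihq => exact ⟨by rw [← conj_mul, ihp.1, ihq.1], mul_mem ihp.2 ihq.2⟩
    | inv p _ ihp => exact ⟨by rw [← conj_inv, ihp.1], inv_mem ihp.2⟩
  -- `u'` moves into the parabolic
  have hu2 : W * u' * W⁻¹ ∈ par x := by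
    refine conj_closure_mem ?_ hu'
    rintro _ ⟨k, l, s, hk, hkl, rfl⟩
    have hka : Fin.succ k = a := Fin.ext (by simp [hk])
    have hla : Fin.succ l ≠ a := fun h => hkl (Fin.succ_injective _ (hka.trans h.symm))
    show W * x (Fin.succ k) (Fin.succ l) s * W⁻¹ ∈ par x
    rw [hka, S.row' oa (Fin.succ_ne_zero l).symm (Ne.symm hla) one_ne_zero]
    exact x_mem_par (Fin.succ_ne_zero l).symm (Fin.succ_ne_zero l) _
  obtain ⟨hp'L, hp'P⟩ := W_par' S H hp'
  have hp'P' : W⁻¹ * p' * W ∈ par x := by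
    rw [show W⁻¹ * p' * W = (W * W)⁻¹ * (W * p' * W⁻¹) * (W * W) by group]
    exact mul_mem (mul_mem (inv_mem (ww_mem S)) hp'P) (ww_mem S)
  rw [show W * (ℓ * u * W) = (W * ℓ₂ * W⁻¹) * ((W * u' * W⁻¹) *
      ((W * wE x a c 1 * (p' * u * p'⁻¹) * W) * (W⁻¹ * p' * W))) by rw [hdec']; group, hℓ2.1]
  refine two_left S (levi_le_par hℓ2.2) (two_left S hu2 (two_right S ?_ hp'P'))
  obtain ⟨r, v, -, hv, hv'⟩ := row_split S (levi_row S hp'L hu)
  rw [hv', show W * wE x a c 1 * (x o a r * v) * W =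
    (W * (wE x a c 1 * x o a r * (wE x a c 1)⁻¹) * W⁻¹) * (W * wE x a c 1 * W) * (W⁻¹ * v * W) by group,
    S.col hca.symm oa hco.symm one_ne_zero, S.row oa hco.symm hca.symm one_ne_zero]
  refine two_right S ?_ (levi_le_par hv)
  refine two_left S (x_mem_par hca.symm hco _) ?_
  -- the braid relation
  have hwoc : wE x a c 1 * wE x o a (-1) * (wE x a c 1)⁻¹ = wE x o c 1 := by
    rw [conjw, S.col hca.symm oa hco.symm one_ne_zero, S.row hca.symm oa.symm hco one_ne_zero]
    simp only [wE]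
    congr <;> simp
  have hWac : W * wE x a c 1 * W⁻¹ = wE x o c 1 := by
    rw [conjw, S.row' oa hco.symm hca.symm one_ne_zero, S.col' oa hco hca one_ne_zero]
    simp [wE]
  have hwac : wE x a c 1 ∈ par x :=
    mul_mem (mul_mem (x_mem_par hca.symm hco 1) (x_mem_par hca oa.symm _)) (x_mem_par hca.symm hco 1)
  rw [show W * wE x a c 1 * W = (W * wE x a c 1 * W⁻¹) * (W * W) by group, hWac, ← hwoc,
    S.w_neg_one oa, show ∀ p q r s : G, p * (q * r) * p⁻¹ * s = p * (q * (r * (p⁻¹ * s))) from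
      fun _ _ _ _ => by group]
  exact two_left S hwac (two_left S (h_mem_par (neg_ne_zero.2 one_ne_zero))
    (two_W S (mul_mem (inv_mem hwac) (ww_mem S))))

theorem two_all {g : G} (hg : g ∈ grp x) : Two x g := by
  have hWi : ∀ z, Two x z → Two x (W⁻¹ * z) := fun z hz => by
    rw [show W⁻¹ * z = (W * W)⁻¹ * (W * z) by group]
    exact two_left S (inv_mem (ww_mem S)) (two_W_left S H hz)
  have hxio : ∀ (i j : Fin (m + 2)) (t : K), i ≠ j → ∀ z, Two x z → Two x (x i j t * z) := by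
    intro i j t hij z hz
    by_cases hj : j = o
    · subst hj
      have key : ∃ k l : Fin (m + 2), ∃ s : K, k ≠ l ∧ l ≠ o ∧ x i o t = W * x k l s * W⁻¹ := by
        by_cases hia : i = a
        · subst hia
          exact ⟨o, a, -t, oa, oa.symm, by rw [S.self oa one_ne_zero]; simp⟩
        · exact ⟨i, a, t, hia, oa.symm, by rw [S.col' oa hij hia one_ne_zero]; simp⟩
      obtain ⟨k, l, s, hkl, hl, e⟩ := key
      rw [e, mul_assoc, mul_assoc]
      exact two_W_left S H (two_left S (x_mem_par hkl hl s) (hWi z hz))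
    · exact two_left S (x_mem_par hij hj t) hz
  induction hg using Subgroup.closure_induction_left with
  | one => exact Or.inl (one_mem _)
  | mul_left y hy z _ ih =>
    obtain ⟨i, j, t, hij, rfl⟩ := hy
    exact hxio i j t hij z ih
  | inv_mul_cancel y hy z _ ih =>
    obtain ⟨i, j, t, hij, rfl⟩ := hy
    rw [S.inv_eq hij]
    exact hxio i j _ hij z ih

omit [Finite K] in
theorem par_card : Finite (par x) ∧ Nat.card (par x) ≤ Fintype.card K ^ (m + 1) *
    Nat.card (Matrix.SpecialLinearGroup (Fin (m + 1)) K) * (Fintype.card K - 1) := by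
  classical
  haveI : Finite K := inferInstance
  let T : Kˣ →* G := MonoidHom.mk' (fun t => hE x o a (t : K)) fun t u => by
    rw [Units.val_mul, hmul' S t.ne_zero u.ne_zero]
  have hTn : T.range ≤ Subgroup.normalizer ((row x ⊔ levi x : Subgroup G) : Set G) := by
    rintro _ ⟨t, rfl⟩
    have key : ∀ t : K, t ≠ 0 → ∀ u ∈ row x ⊔ levi x, hE x o a t * u * (hE x o a t)⁻¹ ∈ row x ⊔ levi x := by
      intro t ht u hu
      have hle : row x ⊔ levi x ≤ (row x ⊔ levi x).comap (MulAut.conj (hE x o a t)).toMonoidHom :=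
        sup_le (fun p hp => Subgroup.mem_sup_left (h_row S ht hp))
          (fun p hp => Subgroup.mem_sup_right (h_levi S ht hp))
      exact hle hu
    refine Subgroup.mem_normalizer_iff.2 fun u => ⟨key _ t.ne_zero u, fun hu => ?_⟩
    have := key _ (inv_ne_zero t.ne_zero) _ hu
    rw [← hinv S t.ne_zero] at this
    simpa [T, mul_assoc] using this
  have hpar : (par x : Set G) ⊆ ((row x : Set G) * (levi x : Set G)) * (T.range : Set G) := by
    rw [← Subgroup.coe_mul_of_right_le_normalizer_left _ _ (levi_le_normalizer S),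
      ← Subgroup.coe_mul_of_right_le_normalizer_left _ _ hTn]
    refine SetLike.coe_subset_coe.2 ((Subgroup.closure_le _).2 ?_)
    rintro y (⟨i, j, t, hij, hj, rfl⟩ | ⟨i, j, t, hi, hj, ht, rfl⟩)
    · by_cases hi : i = o
      · subst hi; exact Subgroup.mem_sup_left (Subgroup.mem_sup_left (x_mem_row hij t))
      · exact Subgroup.mem_sup_left (Subgroup.mem_sup_right
          (x_mem_levi hij hi (fun h => hj (by rw [h]; rfl)) t))
    · obtain rfl : i = o := Fin.ext hi
      obtain rfl : j = a := Fin.ext hj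
      exact Subgroup.mem_sup_right ⟨Units.mk0 t ht, rfl⟩
  have hrow : Finite (row x) ∧ Nat.card (row x) ≤ Fintype.card K ^ (m + 1) := by
    let φ : ∀ j : Fin (m + 1), Multiplicative K →* G := fun j => MonoidHom.mk'
      (fun t => x o (Fin.succ j) (Multiplicative.toAdd t))
      (fun t u => (S.add o _ (Fin.succ_ne_zero j).symm _ _).symm)
    have hc : Pairwise fun i j => ∀ p q, Commute (φ i p) (φ j q) := fun i j _ p q =>
      S.comm0 o _ o _ (Fin.succ_ne_zero i).symm (Fin.succ_ne_zero j).symm (Fin.succ_ne_zero j).symm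
        (Fin.succ_ne_zero i) _ _
    have hle : row x ≤ (MonoidHom.noncommPiCoprod φ hc).range := by
      rw [row, Subgroup.closure_le]
      rintro _ ⟨i, j, t, hi, hij, rfl⟩
      obtain rfl : i = o := Fin.ext hi
      obtain ⟨j', rfl⟩ := Fin.exists_succ_eq.2 hij.symm
      exact ⟨Pi.mulSingle j' (Multiplicative.ofAdd t), MonoidHom.noncommPiCoprod_mulSingle φ (hcomm := hc) _ _⟩
    haveI : Finite (MonoidHom.noncommPiCoprod φ hc).range := Finite.of_surjective _
      (MonoidHom.noncommPiCoprod φ hc).rangeRestrict_surjective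
    refine ⟨Finite.of_injective _ (Subgroup.inclusion_injective hle),
      (Subgroup.card_le_of_le hle).trans ((Nat.card_le_card_of_surjective _
        (MonoidHom.noncommPiCoprod φ hc).rangeRestrict_surjective).trans (le_of_eq ?_))⟩
    simp [Nat.card_fun]
  have hlevi : Finite (levi x) ∧
      Nat.card (levi x) ≤ Nat.card (Matrix.SpecialLinearGroup (Fin (m + 1)) K) := by
    rw [← shift_grp]; exact H.2.2
  haveI := hrow.1
  haveI := hlevi.1
  haveI : Finite T.range := Finite.of_surjective _ T.rangeRestrict_surjective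
  have hfin : (((row x : Set G) * (levi x : Set G)) * (T.range : Set G)).Finite :=
    ((Set.toFinite _).mul (Set.toFinite _)).mul (Set.toFinite _)
  refine ⟨(hfin.subset hpar).to_subtype, ?_⟩
  refine (Nat.card_mono hfin hpar).trans (Set.natCard_mul_le.trans (Nat.mul_le_mul
    (Set.natCard_mul_le.trans (Nat.mul_le_mul hrow.2 hlevi.2)) ?_))
  refine (Nat.card_le_card_of_surjective _ T.rangeRestrict_surjective).trans (le_of_eq ?_)
  rw [Nat.card_units, Nat.card_eq_fintype_card]

theorem good_step : Good x := by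
  classical
  obtain ⟨R', hR'fin, hR'card, hR'⟩ := H.2.1
  haveI := (par_card S H).1
  let R : Set G := insert 1 ((fun z : G × K => z.1 * x o a z.2 * W) '' (R' ×ˢ (Set.univ : Set K)))
  have hfin : R.Finite := ((hR'fin.prod Set.finite_univ).image _).insert 1
  have hcard : R.ncard ≤ ∑ i ∈ Finset.range (m + 2), Fintype.card K ^ i := by
    refine (Set.ncard_insert_le _ _).trans ?_
    rw [Finset.sum_range_succ' _ (m + 1), pow_zero]
    refine Nat.succ_le_succ ((Set.ncard_image_le (hR'fin.prod Set.finite_univ)).trans ?_)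
    rw [Set.ncard_prod, Set.ncard_univ, Nat.card_eq_fintype_card]
    refine (Nat.mul_le_mul_right _ hR'card).trans (le_of_eq ?_)
    rw [Finset.sum_mul]
    exact Finset.sum_congr rfl fun i _ => (pow_succ _ _).symm
  have hR : ∀ g ∈ grp x, ∃ r ∈ R, ∃ p ∈ par x, g = r * p := by
    intro g hg
    rcases two_all S H hg with h | h
    · exact ⟨1, Set.mem_insert _ _, g, h, (one_mul g).symm⟩
    obtain ⟨ℓ, hℓ, u, hu, p, hp, rfl⟩ := cell_elim S h
    obtain ⟨ρ, hρ, p', hp', rfl⟩ := hR' ℓ (by rw [shift_grp]; exact hℓ)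
    obtain ⟨hp'L, hp'P⟩ := W_par' S H hp'
    obtain ⟨r, v, -, hv, hv'⟩ := row_split S (levi_row S hp'L hu)
    refine ⟨ρ * x o a r * W, Set.mem_insert_of_mem _ ⟨(ρ, r), ⟨hρ, trivial⟩, rfl⟩,
      (W⁻¹ * v * W) * (W⁻¹ * p' * W) * p, mul_mem (mul_mem (levi_le_par hv) ?_) hp, ?_⟩
    · rw [show W⁻¹ * p' * W = (W * W)⁻¹ * (W * p' * W⁻¹) * (W * W) by group]
      exact mul_mem (mul_mem (inv_mem (ww_mem S)) hp'P) (ww_mem S)
    · calc ρ * p' * u * W * p = ρ * (p' * u * p'⁻¹) * p' * W * p := by group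
        _ = ρ * (x o a r * v) * p' * W * p := by rw [hv']
        _ = _ := by group
  refine ⟨fun g hg => two_all S H hg, ⟨R, hfin, hcard, hR⟩, ?_⟩
  have hsub : (grp x : Set G) ⊆ R * (par x : Set G) := fun g hg => by
    obtain ⟨r, hr, p, hp, rfl⟩ := hR g hg
    exact Set.mul_mem_mul hr hp
  have hf2 : (R * (par x : Set G)).Finite := hfin.mul (Set.toFinite _)
  refine ⟨(hf2.subset hsub).to_subtype, (Nat.card_mono hf2 hsub).trans (Set.natCard_mul_le.trans ?_)⟩
  rw [Nat.card_coe_set_eq]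
  refine (Nat.mul_le_mul hcard (par_card S H).2).trans (le_of_eq ?_)
  have hGL := CfsgLib.SylowAbel.card_GL_succ (F := K) (m + 1)
  rw [CfsgLib.Linear.card_GL_eq_mul_card_SL, CfsgLib.Linear.card_GL_eq_mul_card_SL] at hGL
  have hq : 1 < Fintype.card K := Fintype.one_lt_card
  have hgeom : (∑ i ∈ Finset.range (m + 2), Fintype.card K ^ i) * (Fintype.card K - 1) =
      Fintype.card K ^ (m + 2) - 1 := geom_sum_mul_of_one_le (by omega) _
  refine Nat.eq_of_mul_eq_mul_left (show 0 < Fintype.card K - 1 by omega) ?_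
  rw [hGL, ← hgeom]
  ring

end Step

theorem good [Fintype K] : ∀ (n : ℕ) (x : Fin (n + 1) → Fin (n + 1) → K → G), Sys x → Good x := by
  intro n
  induction n with
  | zero =>
    intro x _
    have hbot : grp x = ⊥ := by
      rw [grp, Subgroup.closure_eq_bot_iff]
      rintro _ ⟨i, j, t, hij, rfl⟩
      exact absurd (Subsingleton.elim (α := Fin 1) i j) hij
    refine ⟨fun g hg => Or.inl (by rw [hbot, Subgroup.mem_bot] at hg; rw [hg]; exact one_mem _),
      ⟨{1}, Set.finite_singleton 1, by simp, fun g hg => ⟨1, rfl, 1, one_mem _, by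
        rw [hbot, Subgroup.mem_bot] at hg; rw [hg, mul_one]⟩⟩, ?_⟩
    rw [hbot]
    exact ⟨inferInstance, le_of_eq_of_le Subgroup.card_bot Nat.card_pos⟩
  | succ m ih =>
    intro x S
    exact good_step S (ih _ (S.restrict Fin.succ (Fin.succ_injective _)))

/-- The order bound. -/
theorem card_le_SL [Fintype K] {n : ℕ} {x : Fin n → Fin n → K → G} (hn : 1 ≤ n) (S : Sys x)
    (hgen : Subgroup.closure (gensAll x) = ⊤) :
    Finite G ∧ Nat.card G ≤ Nat.card (Matrix.SpecialLinearGroup (Fin n) K) := by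
  obtain ⟨k, rfl⟩ : ∃ k, n = k + 1 := ⟨n - 1, by omega⟩
  obtain ⟨-, -, hf, hc⟩ := good k x S
  rw [show grp x = ⊤ from hgen] at hf hc
  haveI := hf
  exact ⟨Finite.of_equiv _ Subgroup.topEquiv.toEquiv,
    (Nat.card_congr Subgroup.topEquiv.toEquiv).symm.le.trans hc⟩

end CfsgLib.SteinbergSL
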