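import Cfsg.Agent.Lib.SteinbergTwo.Abstract

/-!
Root systems of type A satisfying the Steinberg relations: Weyl words and torus words.
-/

set_option autoImplicit false

namespace CfsgLib.SteinbergSL

open CfsgLib.SteinbergTwo (Rel wWord hWord)

variable {ι K G : Type*} [Field K] [Group G]

/-- The two root maps of a pair of indices. -/
def pair (x : ι → ι → K → G) (i j : ι) (b : Bool) (t : K) : G := if b then x i j t else x j i t

/-- The Weyl word of a pair. -/
def wE (x : ι → ι → K → G) (i j : ι) (t : K) : G := x i j t * x j i (-t⁻¹) * x i j t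

/-- The torus word of a pair. -/
def hE (x : ι → ι → K → G) (i j : ι) (t : K) : G := wE x i j t * wE x i j (-1)

/-- The Steinberg relations of type A, including the rank one relation for every pair. -/
structure Sys (x : ι → ι → K → G) : Prop where
  add : ∀ i j, i ≠ j → ∀ t u, x i j t * x i j u = x i j (t + u)
  comm0 : ∀ i j k l, i ≠ j → k ≠ l → i ≠ l → j ≠ k → ∀ t u, Commute (x i j t) (x k l u)
  comm1 : ∀ i j k, i ≠ j → j ≠ k → i ≠ k → ∀ t u,
    x i j t * x j k u = x i k (t * u) * x j k u * x i j t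
  two : ∀ i j, i ≠ j → Rel (pair x i j)

theorem wE_eq (x : ι → ι → K → G) (i j : ι) (t : K) : wE x i j t = wWord (pair x i j) true t := rfl

theorem hE_eq (x : ι → ι → K → G) (i j : ι) (t : K) : hE x i j t = hWord (pair x i j) t := rfl

theorem conj3 (a b c g : G) : a * b * c * g * (a * b * c)⁻¹ = a * (b * (c * g * c⁻¹) * b⁻¹) * a⁻¹ := by
  simp only [mul_inv_rev, mul_assoc]

section Commutators

variable {x : ι → ι → K → G}
  (hadd : ∀ i j, i ≠ j → ∀ t u, x i j t * x i j u = x i j (t + u))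
  (h0 : ∀ i j k l, i ≠ j → k ≠ l → i ≠ l → j ≠ k → ∀ t u, Commute (x i j t) (x k l u))
  (h1 : ∀ i j k, i ≠ j → j ≠ k → i ≠ k → ∀ t u,
    x i j t * x j k u = x i k (t * u) * x j k u * x i j t)

include hadd in
theorem x_zero {i j : ι} (h : i ≠ j) : x i j 0 = 1 := by
  have e := hadd i j h 0 0
  rwa [add_zero, mul_eq_left] at e

include hadd in
theorem x_inv {i j : ι} (h : i ≠ j) (t : K) : (x i j t)⁻¹ = x i j (-t) := by
  rw [inv_eq_iff_mul_eq_one, hadd i j h, add_neg_cancel, x_zero hadd h]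

include h0 in
theorem conj_fix {i j k l : ι} (hij : i ≠ j) (hkl : k ≠ l) (hil : i ≠ l) (hjk : j ≠ k) (t u : K) :
    x i j t * x k l u * (x i j t)⁻¹ = x k l u := by
  rw [(h0 i j k l hij hkl hil hjk t u).eq, mul_inv_cancel_right]

include h1 in
theorem conj_one {i j k : ι} (hij : i ≠ j) (hjk : j ≠ k) (hik : i ≠ k) (t u : K) :
    x i j t * x j k u * (x i j t)⁻¹ = x i k (t * u) * x j k u := by
  rw [h1 i j k hij hjk hik, mul_inv_cancel_right]

include hadd h1 in
theorem conj_two {i j k : ι} (hij : i ≠ j) (hki : k ≠ i) (hkj : k ≠ j) (t u : K) :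
    x i j t * x k i u * (x i j t)⁻¹ = x k j (-(u * t)) * x k i u := by
  rw [mul_inv_eq_iff_eq_mul, mul_assoc, h1 k i j hki hij hkj, ← mul_assoc, ← mul_assoc,
    hadd k j hkj, neg_add_cancel, x_zero hadd hkj, one_mul]

include hadd h0 h1

theorem w_conj_row {i j k : ι} (hij : i ≠ j) (hik : i ≠ k) (hjk : j ≠ k) {t : K} (ht : t ≠ 0) (u : K) :
    wE x i j t * x i k u * (wE x i j t)⁻¹ = x j k (-(t⁻¹ * u)) := by
  rw [wE, conj3, conj_fix h0 hij hik hik hij.symm, conj_one h1 hij.symm hik hjk,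
    ← conj_mul, conj_one h1 hij hjk hik, conj_fix h0 hij hik hik hij.symm,
    show t * (-t⁻¹ * u) = -u by field_simp, mul_assoc, (h0 j k i k hjk hik hjk hik.symm _ _).eq,
    ← mul_assoc, hadd i k hik, neg_add_cancel, x_zero hadd hik, one_mul, neg_mul]

theorem w_conj_row' {i j k : ι} (hij : i ≠ j) (hik : i ≠ k) (hjk : j ≠ k) {t : K} (ht : t ≠ 0) (u : K) :
    wE x i j t * x j k u * (wE x i j t)⁻¹ = x i k (t * u) := by
  rw [wE, conj3, conj_one h1 hij hjk hik, ← conj_mul (b := x j i (-t⁻¹)), conj_one h1 hij.symm hik hjk,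
    conj_fix h0 hij.symm hjk hjk hij, mul_assoc (x j k _), (h0 i k j k hik hjk hik hjk.symm _ _).eq,
    ← mul_assoc (x j k _), hadd j k hjk, show -t⁻¹ * (t * u) + u = 0 by field_simp; ring,
    x_zero hadd hjk, one_mul, conj_fix h0 hij hik hik hij.symm]

theorem w_conj_col {i j k : ι} (hij : i ≠ j) (hki : k ≠ i) (hkj : k ≠ j) {t : K} (ht : t ≠ 0) (u : K) :
    wE x i j t * x k i u * (wE x i j t)⁻¹ = x k j (-(t * u)) := by
  rw [wE, conj3, conj_two hadd h1 hij hki hkj, ← conj_mul (b := x j i (-t⁻¹)), conj_two hadd h1 hij.symm hkj hki,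
    conj_fix h0 hij.symm hki hij.symm hki.symm,
    mul_assoc (x k i _), (h0 k j k i hkj hki hki hkj.symm _ _).eq, ← mul_assoc (x k i _), hadd k i hki,
    show -(-(u * t) * -t⁻¹) + u = 0 by field_simp; ring, x_zero hadd hki, one_mul,
    conj_fix h0 hij hkj hij hkj.symm, mul_comm u]

theorem w_conj_col' {i j k : ι} (hij : i ≠ j) (hki : k ≠ i) (hkj : k ≠ j) {t : K} (ht : t ≠ 0) (u : K) :
    wE x i j t * x k j u * (wE x i j t)⁻¹ = x k i (t⁻¹ * u) := by
  rw [wE, conj3, conj_fix h0 hij hkj hij hkj.symm, conj_two hadd h1 hij.symm hkj hki,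
    ← conj_mul, conj_two hadd h1 hij hki hkj, conj_fix h0 hij hkj hij hkj.symm,
    show -(-(u * -t⁻¹) * t) = -u by field_simp, mul_assoc, (h0 k i k j hki hkj hkj hki.symm _ _).eq,
    ← mul_assoc, hadd k j hkj, neg_add_cancel, x_zero hadd hkj, one_mul]
  congr 1
  ring

theorem w_conj_fix {i j k l : ι} (hij : i ≠ j) (hkl : k ≠ l) (hki : k ≠ i) (hkj : k ≠ j) (hli : l ≠ i)
    (hlj : l ≠ j) (t u : K) : wE x i j t * x k l u * (wE x i j t)⁻¹ = x k l u := by
  rw [wE, conj3, conj_fix h0 hij hkl hli.symm hkj.symm, conj_fix h0 hij.symm hkl hlj.symm hki.symm,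
    conj_fix h0 hij hkl hli.symm hkj.symm]

/-- With a third index the rank one relation follows. -/
theorem two_of_comm {i j k : ι} (hij : i ≠ j) (hik : i ≠ k) (hjk : j ≠ k) {t : K} (ht : t ≠ 0) (u : K) :
    wE x i j t * x i j u * (wE x i j t)⁻¹ = x j i (-(t⁻¹ ^ 2 * u)) := by
  have hc : ∀ (a b c : ι), a ≠ b → b ≠ c → a ≠ c → ∀ s v,
      x a c (s * v) = x a b s * x b c v * (x a b s)⁻¹ * (x b c v)⁻¹ := by
    intro a b c hab hbc hac s v
    rw [conj_one h1 hab hbc hac, mul_inv_cancel_right]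
  have e := hc i k j hik hjk.symm hij u 1
  rw [mul_one] at e
  rw [e, show wE x i j t * (x i k u * x k j 1 * (x i k u)⁻¹ * (x k j 1)⁻¹) * (wE x i j t)⁻¹ =
    (wE x i j t * x i k u * (wE x i j t)⁻¹) * (wE x i j t * x k j 1 * (wE x i j t)⁻¹) *
    (wE x i j t * x i k u * (wE x i j t)⁻¹)⁻¹ * (wE x i j t * x k j 1 * (wE x i j t)⁻¹)⁻¹ by group,
    w_conj_row hadd h0 h1 hij hik hjk ht, w_conj_col' hadd h0 h1 hij hik.symm hjk.symm ht,
    ← hc j k i hjk hik.symm hij.symm]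
  congr 1
  ring

end Commutators

/-- A system with the commutator relations on at least three indices satisfies the rank one relations. -/
theorem Sys.of_comm {x : ι → ι → K → G}
    (hadd : ∀ i j, i ≠ j → ∀ t u, x i j t * x i j u = x i j (t + u))
    (h0 : ∀ i j k l, i ≠ j → k ≠ l → i ≠ l → j ≠ k → ∀ t u, Commute (x i j t) (x k l u))
    (h1 : ∀ i j k, i ≠ j → j ≠ k → i ≠ k → ∀ t u,
      x i j t * x j k u = x i k (t * u) * x j k u * x i j t)
    (h3 : ∀ i j : ι, ∃ k, k ≠ i ∧ k ≠ j) : Sys x := by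
  refine ⟨hadd, h0, h1, fun i j hij => ⟨fun b t u => ?_, fun b t u ht => ?_⟩⟩
  · cases b
    · exact hadd j i hij.symm t u
    · exact hadd i j hij t u
  · obtain ⟨k, hki, hkj⟩ := h3 i j
    cases b
    · exact two_of_comm hadd h0 h1 hij.symm hkj.symm hki.symm ht u
    · exact two_of_comm hadd h0 h1 hij hki.symm hkj.symm ht u

variable {x : ι → ι → K → G}

theorem Sys.zero (S : Sys x) {i j : ι} (h : i ≠ j) : x i j 0 = 1 := x_zero S.add h

theorem Sys.inv_eq (S : Sys x) {i j : ι} (h : i ≠ j) (t : K) : (x i j t)⁻¹ = x i j (-t) :=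
  x_inv S.add h t

theorem Sys.restrict {κ : Type*} (S : Sys x) (f : κ → ι) (hf : Function.Injective f) :
    Sys fun i j => x (f i) (f j) :=
  ⟨fun _ _ h => S.add _ _ (hf.ne h), fun _ _ _ _ a b c d => S.comm0 _ _ _ _ (hf.ne a) (hf.ne b) (hf.ne c) (hf.ne d),
    fun _ _ _ a b c => S.comm1 _ _ _ (hf.ne a) (hf.ne b) (hf.ne c), fun _ _ h => S.two _ _ (hf.ne h)⟩

theorem Sys.w_inv (S : Sys x) {i j : ι} (h : i ≠ j) (t : K) : (wE x i j t)⁻¹ = wE x i j (-t) := by
  rw [wE_eq, wE_eq]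
  exact (S.two i j h).w_inv true t

theorem Sys.row (S : Sys x) {i j k : ι} (hij : i ≠ j) (hik : i ≠ k) (hjk : j ≠ k) {t : K} (ht : t ≠ 0)
    (u : K) : wE x i j t * x i k u * (wE x i j t)⁻¹ = x j k (-(t⁻¹ * u)) :=
  w_conj_row S.add S.comm0 S.comm1 hij hik hjk ht u

theorem Sys.row' (S : Sys x) {i j k : ι} (hij : i ≠ j) (hik : i ≠ k) (hjk : j ≠ k) {t : K} (ht : t ≠ 0)
    (u : K) : wE x i j t * x j k u * (wE x i j t)⁻¹ = x i k (t * u) :=
  w_conj_row' S.add S.comm0 S.comm1 hij hik hjk ht u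

theorem Sys.col (S : Sys x) {i j k : ι} (hij : i ≠ j) (hki : k ≠ i) (hkj : k ≠ j) {t : K} (ht : t ≠ 0)
    (u : K) : wE x i j t * x k i u * (wE x i j t)⁻¹ = x k j (-(t * u)) :=
  w_conj_col S.add S.comm0 S.comm1 hij hki hkj ht u

theorem Sys.col' (S : Sys x) {i j k : ι} (hij : i ≠ j) (hki : k ≠ i) (hkj : k ≠ j) {t : K} (ht : t ≠ 0)
    (u : K) : wE x i j t * x k j u * (wE x i j t)⁻¹ = x k i (t⁻¹ * u) :=
  w_conj_col' S.add S.comm0 S.comm1 hij hki hkj ht u

theorem Sys.wfix (S : Sys x) {i j k l : ι} (hij : i ≠ j) (hkl : k ≠ l) (hki : k ≠ i) (hkj : k ≠ j)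
    (hli : l ≠ i) (hlj : l ≠ j) (t u : K) : wE x i j t * x k l u * (wE x i j t)⁻¹ = x k l u :=
  w_conj_fix S.add S.comm0 S.comm1 hij hkl hki hkj hli hlj t u

theorem Sys.self (S : Sys x) {i j : ι} (hij : i ≠ j) {t : K} (ht : t ≠ 0) (u : K) :
    wE x i j t * x i j u * (wE x i j t)⁻¹ = x j i (-(t⁻¹ ^ 2 * u)) :=
  (S.two i j hij).conj true t u ht

theorem Sys.self' (S : Sys x) {i j : ι} (hij : i ≠ j) {t : K} (ht : t ≠ 0) (u : K) :
    wE x i j t * x j i u * (wE x i j t)⁻¹ = x i j (-(t ^ 2 * u)) :=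
  (S.two i j hij).w_conj_v ht u

theorem conjw (g : G) (x : ι → ι → K → G) (i j : ι) (t : K) : g * wE x i j t * g⁻¹ =
    (g * x i j t * g⁻¹) * (g * x j i (-t⁻¹) * g⁻¹) * (g * x i j t * g⁻¹) := by
  simp only [wE, mul_assoc, inv_mul_cancel_left]

/-- Conjugation by torus words scales the root elements. -/
theorem Sys.h_conj (S : Sys x) {i j : ι} (hij : i ≠ j) {t : K} (ht : t ≠ 0) {k l : ι} (hkl : k ≠ l)
    (u : K) : ∃ c : K, hE x i j t * x k l u * (hE x i j t)⁻¹ = x k l c := by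
  have h1 : (-1 : K) ≠ 0 := neg_ne_zero.2 one_ne_zero
  have e : hE x i j t * x k l u * (hE x i j t)⁻¹ =
      wE x i j t * (wE x i j (-1) * x k l u * (wE x i j (-1))⁻¹) * (wE x i j t)⁻¹ := by
    simp only [hE, mul_inv_rev, mul_assoc]
  rw [e]
  by_cases hki : k = i
  · subst hki
    by_cases hlj : l = j
    · subst hlj; exact ⟨_, by rw [S.self hij h1, S.self' hij ht]⟩
    · exact ⟨_, by rw [S.row hij hkl (Ne.symm hlj) h1, S.row' hij hkl (Ne.symm hlj) ht]⟩
  by_cases hkj : k = j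
  · subst hkj
    by_cases hli : l = i
    · subst hli; exact ⟨_, by rw [S.self' hij h1, S.self hij ht]⟩
    · exact ⟨_, by rw [S.row' hij (Ne.symm hli) hkl h1, S.row hij (Ne.symm hli) hkl ht]⟩
  by_cases hli : l = i
  · subst hli; exact ⟨_, by rw [S.col hij hki hkj h1, S.col' hij hki hkj ht]⟩
  by_cases hlj : l = j
  · subst hlj; exact ⟨_, by rw [S.col' hij hki hkj h1, S.col hij hki hkj ht]⟩
  exact ⟨_, by rw [S.wfix hij hkl hki hkj hli hlj, S.wfix hij hkl hki hkj hli hlj]⟩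

theorem Sys.h_mul [Finite K] (S : Sys x) {i j : ι} (hij : i ≠ j) {t u : K} (ht : t ≠ 0) (hu : u ≠ 0) :
    hE x i j t * hE x i j u = hE x i j (t * u) := by
  let H : Subgroup G := Subgroup.closure {g | ∃ b s, g = pair x i j b s}
  let y : Bool → K → H := fun b s => ⟨pair x i j b s, Subgroup.subset_closure ⟨b, s, rfl⟩⟩
  have R : Rel y := ⟨fun b s v => Subtype.ext ((S.two i j hij).add b s v),
    fun b s v hs => Subtype.ext ((S.two i j hij).conj b s v hs)⟩
  have hgen : Subgroup.closure {g : H | ∃ b s, g = y b s} = ⊤ := by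
    have : {g : H | ∃ b s, g = y b s} = (↑) ⁻¹' {g | ∃ b s, g = pair x i j b s} := by
      ext g
      exact exists₂_congr fun b s => Subtype.ext_iff
    rw [this]
    exact Subgroup.closure_closure_coe_preimage
  exact congrArg Subtype.val (R.h_mul hgen ht hu)

theorem Sys.ww (S : Sys x) {i j : ι} (hij : i ≠ j) :
    wE x i j 1 * wE x i j 1 = (hE x i j (-1))⁻¹ := by
  rw [hE, mul_inv_rev, S.w_inv hij, neg_neg]

theorem Sys.w_neg_one (S : Sys x) {i j : ι} (hij : i ≠ j) :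
    wE x i j (-1) = hE x i j (-1) * wE x i j 1 := by
  rw [hE, mul_assoc, ← neg_neg (1 : K), ← S.w_inv hij, inv_mul_cancel, mul_one, neg_neg]

theorem Sys.h_w (S : Sys x) {i j : ι} (hij : i ≠ j) (t : K) :
    hE x i j t * wE x i j 1 = wE x i j t := by
  rw [hE, mul_assoc, ← neg_neg (1 : K), ← S.w_inv hij, inv_mul_cancel, mul_one]

end CfsgLib.SteinbergSL
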